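import Groth.Agent.H22Alg.GaloisFibres
import Groth.Agent.H27Weil.FrobField
import Groth.Agent.H27Zeta.PointCount
import Groth.Prelude.Def_ResDeg
import Mathlib

/-!
# Closed points of `X ⊗ k̄` over a closed point of `X`
-/

set_option autoImplicit false
set_option linter.style.haveILetI false

universe u

open CategoryTheory CategoryTheory.Limits AlgebraicGeometry

namespace Groth.Agent.H27FrobPts

variable {k : Type u} [Field k] {X : Scheme.{u}} (f : X ⟶ Spec (CommRingCat.of k))

theorem residueDegree_eq (x : X) (ψ : CommRingCat.of k ⟶ X.residueField x) (hψ : Spec.map ψ = X.fromSpecResidueField x ≫ f) :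
    EGA4loc.residueDegree f x = @Module.finrank k (X.residueField x) _ _ ψ.hom.toAlgebra.toModule := by
  show @Module.finrank ((Spec (CommRingCat.of k)).residueField (f x)) (X.residueField x) _ _
    (f.residueFieldMap x).hom.toAlgebra.toModule = _
  rw [H27Weil.finrank_toAlgebra_eq, H27Weil.finrank_toAlgebra_eq]
  haveI : (f x).asIdeal.IsMaximal := by
    rcases Ideal.eq_bot_or_top (f x).asIdeal with h | h
    · rw [h]; exact Ideal.bot_isMaximal
    · exact absurd h (f x).isPrime.ne_top
  let ι' : CommRingCat.of k ⟶ (Spec (CommRingCat.of k)).residueField (f x) :=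
    CommRingCat.ofHom (algebraMap k (f x).asIdeal.ResidueField) ≫
      (Scheme.Spec.residueFieldIso (CommRingCat.of k) (f x)).inv
  have hι' : Spec.map ι' = (Spec (CommRingCat.of k)).fromSpecResidueField (f x) :=
    (Spec.map_comp _ _).trans (Scheme.Spec.map_residueFieldIso_inv_eq_fromSpecResidueField (CommRingCat.of k) (f x))
  have hcomp : ψ = ι' ≫ f.residueFieldMap x := by
    apply Spec.map_injective
    rw [hψ, Spec.map_comp, hι', Scheme.Hom.SpecMap_residueFieldMap_fromSpecResidueField]
  have hsurj : Function.Surjective ι'.hom :=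
    ((Scheme.Spec.residueFieldIso (CommRingCat.of k) (f x)).symm.commRingCatIsoToRingEquiv.surjective).comp
      (Ideal.algebraMap_residueField_surjective _)
  have hr : (f.residueFieldMap x).hom.fieldRange = ψ.hom.fieldRange := by
    ext a
    simp only [RingHom.mem_fieldRange, hcomp, CommRingCat.hom_comp, RingHom.comp_apply]
    exact hsurj.exists
  rw [hr]

variable [PerfectField k] (K : Type u) [Field K] [Algebra k K] [IsAlgClosed K] [Normal k K] [LocallyOfFiniteType f]

local notation "sK" => Spec.map (CommRingCat.ofHom (algebraMap k K))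

theorem isClosed_of_isClosed_image {z : ↥(pullback f sK)}
    (hz : IsClosed ({pullback.fst f sK z} : Set X)) : IsClosed ({z} : Set ↥(pullback f sK)) := by
  haveI : LocallyOfFiniteType (pullback.snd f sK) := MorphismProperty.pullback_snd f _ inferInstance
  haveI : JacobsonSpace ↥(pullback f sK) := LocallyOfFiniteType.jacobsonSpace (pullback.snd f sK)
  obtain ⟨z', hz', hzc⟩ := nonempty_inter_closedPoints (X := ↥(pullback f sK))
    (Z := pullback.fst f sK ⁻¹' {pullback.fst f sK z}) ⟨z, rfl⟩ (hz.preimage (pullback.fst f sK).continuous).isLocallyClosed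
  obtain ⟨σ, hσ⟩ := H22Alg.GaloisFibres.exists_smul_eq f K (z := z') (z' := z) hz'
  have h : ({z} : Set ↥(pullback f sK)) = (H22Alg.GaloisFibres.act f K σ⁻¹) ⁻¹' {z'} := by
    ext w
    refine ⟨fun h => ?_, fun h => ?_⟩
    · rw [Set.mem_singleton_iff] at h
      subst h
      exact hσ
    · have h' : σ • w = σ • z := h.trans hσ.symm
      exact smul_left_cancel σ h'
  rw [h]
  exact hzc.preimage (H22Alg.GaloisFibres.act f K σ⁻¹).continuous

theorem finite_and_card_fibre (x : X) (hx : IsClosed ({x} : Set X)) :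
    ((pullback.fst f sK).base ⁻¹' {x}).Finite ∧
      Nat.card ↥((pullback.fst f sK).base ⁻¹' {x}) = EGA4loc.residueDegree f x := by
  haveI : LocallyOfFiniteType (pullback.snd f sK) := MorphismProperty.pullback_snd f _ inferInstance
  let ψ : CommRingCat.of k ⟶ X.residueField x := Spec.preimage (X.fromSpecResidueField x ≫ f)
  have hψ : Spec.map ψ = X.fromSpecResidueField x ≫ f := Spec.map_preimage _
  letI : Algebra k (X.residueField x) := ψ.hom.toAlgebra
  haveI : LocallyOfFiniteType (X.fromSpecResidueField x) :=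
    haveI : JacobsonSpace X := LocallyOfFiniteType.jacobsonSpace f
    isClosed_singleton_iff_locallyOfFiniteType.mp hx
  haveI : Module.Finite k (X.residueField x) := by
    haveI : LocallyOfFiniteType (Spec.map ψ) := by rw [hψ]; infer_instance
    haveI : Algebra.FiniteType k (X.residueField x) :=
      (HasRingHomProperty.Spec_iff (P := @LocallyOfFiniteType)).mp ‹LocallyOfFiniteType (Spec.map ψ)›
    exact finite_of_finite_type_of_isJacobsonRing k (X.residueField x)
  haveI : Algebra.IsSeparable k (X.residueField x) := Algebra.IsAlgebraic.isSeparable_of_perfectField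
  rw [residueDegree_eq f x ψ hψ]
  show _ ∧ _ = Module.finrank k (X.residueField x)
  let c : Spec (CommRingCat.of K) := IsLocalRing.closedPoint K
  have hw : ∀ θ : X.residueField x →ₐ[k] K,
      (Spec.map (CommRingCat.ofHom θ.toRingHom) ≫ X.fromSpecResidueField x) ≫ f = 𝟙 _ ≫ sK := fun θ => by
    rw [Category.assoc, ← hψ, ← Spec.map_comp, Category.id_comp]
    exact congrArg Spec.map (CommRingCat.hom_ext (RingHom.ext θ.commutes))
  let P : (X.residueField x →ₐ[k] K) → (Spec (CommRingCat.of K) ⟶ pullback f sK) :=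
    fun θ => pullback.lift _ _ (hw θ)
  have hP1 : ∀ θ, P θ ≫ pullback.fst f sK = Spec.map (CommRingCat.ofHom θ.toRingHom) ≫ X.fromSpecResidueField x :=
    fun θ => pullback.lift_fst _ _ _
  have hP2 : ∀ θ, P θ ≫ pullback.snd f sK = 𝟙 _ := fun θ => pullback.lift_snd _ _ _
  have hPx : ∀ θ, pullback.fst f sK (P θ c) = x := fun θ => by
    rw [← Scheme.Hom.comp_apply, hP1, Scheme.Hom.comp_apply]
    exact Scheme.fromSpecResidueField_apply _ _
  let Φ : (X.residueField x →ₐ[k] K) → ↥((pullback.fst f sK).base ⁻¹' {x}) := fun θ => ⟨P θ c, hPx θ⟩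
  have hΦ : Function.Bijective Φ := by
    refine ⟨fun θ θ' h => ?_, fun z => ?_⟩
    · have e : P θ = P θ' := ext_of_apply_closedPoint_eq (pullback.snd f sK) (hP2 θ) (hP2 θ') (congrArg Subtype.val h)
      have e' := congrArg (· ≫ pullback.fst f sK) e
      simp only [hP1, cancel_mono] at e'
      exact AlgHom.coe_ringHom_injective (CommRingCat.hom_ext_iff.mp (Spec.map_injective e'))
    · have hzc : IsClosed ({z.1} : Set ↥(pullback f sK)) := isClosed_of_isClosed_image f K (by
        rw [show pullback.fst f sK z.1 = x from z.2]; exact hx)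
      let Q := pointOfClosedPoint (pullback.snd f sK) z.1 hzc
      obtain ⟨⟨x', θ⟩, hθ⟩ : ∃ p, (Scheme.SpecToEquivOfField K X).symm p = Q ≫ pullback.fst f sK :=
        ⟨_, (Scheme.SpecToEquivOfField K X).symm_apply_apply _⟩
      change Spec.map θ ≫ X.fromSpecResidueField x' = _ at hθ
      obtain rfl : x' = x := by
        have := congrArg (fun g : Spec (CommRingCat.of K) ⟶ X => g c) hθ
        simp only [Scheme.Hom.comp_apply] at this
        rw [Scheme.fromSpecResidueField_apply, pointOfClosedPoint_apply] at this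
        exact this.trans z.2
      have hθk : ψ ≫ θ = CommRingCat.ofHom (algebraMap k K) := Spec.map_injective (by
        rw [Spec.map_comp, hψ, reassoc_of% hθ, pullback.condition, pointOfClosedPoint_comp_assoc])
      refine ⟨{ θ.hom with commutes' := fun a => ConcreteCategory.congr_hom hθk a }, Subtype.ext ?_⟩
      have e : P { θ.hom with commutes' := fun a => ConcreteCategory.congr_hom hθk a } = Q :=
        pullback.hom_ext ((hP1 _).trans hθ) ((hP2 _).trans (pointOfClosedPoint_comp _ _ _).symm)
      show P _ c = z.1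
      rw [e]
      exact pointOfClosedPoint_apply _ _ _ _
  haveI : Finite (X.residueField x →ₐ[k] K) := inferInstance
  refine ⟨Set.finite_coe_iff.mp (Finite.of_surjective Φ hΦ.2), ?_⟩
  rw [← Nat.card_congr (Equiv.ofBijective Φ hΦ), Nat.card_eq_fintype_card, AlgHom.card]

theorem bijOn (n : ℕ) :
    Set.BijOn (fun c : X → ℕ => c ∘ (pullback.fst f sK).base)
      {c : X → ℕ | (Function.support c).Finite ∧ (∀ x, c x ≠ 0 → IsClosed ({x} : Set X)) ∧
        ∑ᶠ x, c x * EGA4loc.residueDegree f x = n}
      {d : ↥(pullback f sK) → ℕ | (Function.support d).Finite ∧ (∀ y, d y ≠ 0 → IsClosed ({y} : Set _)) ∧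
        ∑ᶠ y, d y = n ∧ ∀ (σ : K ≃ₐ[k] K) y, d ((H22Alg.GaloisFibres.act f K σ) y) = d y} := by
  classical
  haveI : Algebra.IsAlgebraic k K := inferInstance
  let π := pullback.fst f sK
  have hsurj : Function.Surjective π := H22Alg.GaloisFibres.surjective_bcπ f K
  have hcl : IsClosedMap π := H22Alg.GaloisFibres.isClosedMap_bcπ f K
  have hsum : ∀ c : X → ℕ, (Function.support c).Finite → (∀ x, c x ≠ 0 → IsClosed ({x} : Set X)) →
      (Function.support (c ∘ π.base)).Finite ∧
      ∑ᶠ y, (c ∘ π.base) y = ∑ᶠ x, c x * EGA4loc.residueDegree f x := by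
    intro c hc hcc
    have hfib : ∀ x ∈ hc.toFinset, (π.base ⁻¹' {x}).Finite := fun x hx =>
      (finite_and_card_fibre f K x (hcc x (by simpa using hx))).1
    have hfs : (Function.support (c ∘ π.base)).Finite :=
      (hc.toFinset.finite_toSet.biUnion fun x hx => hfib x hx).subset fun y hy =>
        Set.mem_biUnion (x := π y) (by simpa using hy) rfl
    refine ⟨hfs, ?_⟩
    rw [finsum_eq_sum _ hfs, finsum_eq_sum_of_support_subset _ (s := hc.toFinset) (fun x hx => by
      simp only [Function.mem_support, ne_eq, mul_eq_zero, not_or] at hx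
      simpa using hx.1)]
    rw [← Finset.sum_fiberwise_of_maps_to (g := fun y => π y) (t := hc.toFinset)
      (fun y hy => by simpa using hy) (f := c ∘ π.base)]
    refine Finset.sum_congr rfl fun x hx => ?_
    have hx0 : c x ≠ 0 := by simpa using hx
    rw [Finset.sum_congr rfl fun y hy => show (c ∘ π.base) y = c x from congrArg c (Finset.mem_filter.mp hy).2,
      Finset.sum_const, smul_eq_mul, mul_comm, ← (finite_and_card_fibre f K x (hcc x hx0)).2,
      ← Nat.card_eq_finsetCard]
    congr 1
    refine Nat.card_congr (Equiv.subtypeEquivRight fun y => ?_)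
    simp only [Finset.mem_filter, Set.Finite.mem_toFinset, Function.mem_support, Function.comp_apply,
      Set.mem_preimage, Set.mem_singleton_iff]
    exact ⟨fun h => h.2, fun h => ⟨(congrArg c h).trans_ne hx0, h⟩⟩
  refine ⟨fun c ⟨hc, hcc, hn⟩ => ?_, fun c₁ _ c₂ _ h => ?_, fun d ⟨hd, hdc, hn, hinv⟩ => ?_⟩
  · obtain ⟨h1, h2⟩ := hsum c hc hcc
    refine ⟨h1, fun y hy => isClosed_of_isClosed_image f K (hcc _ hy), h2.trans hn, fun σ y => ?_⟩
    show c (π (H22Alg.GaloisFibres.act f K σ y)) = c (π y)
    rw [← Scheme.Hom.comp_apply, H22Alg.GaloisFibres.act_fst]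
  · funext x
    obtain ⟨y, rfl⟩ := hsurj x
    exact congrFun h y
  · let c : X → ℕ := fun x => d (hsurj x).choose
    have hcd : c ∘ π.base = d := by
      funext y
      show d (hsurj (π y)).choose = d y
      obtain ⟨σ, hσ⟩ := H22Alg.GaloisFibres.exists_smul_eq f K (z := y) (z' := (hsurj (π y)).choose)
        (hsurj (π y)).choose_spec.symm
      conv_rhs => rw [← hσ]
      rw [H22Alg.GaloisFibres.smul_eq, hinv]
    have hfin : (Function.support c).Finite := (hd.image π).subset fun x hx =>
      ⟨_, hx, (hsurj x).choose_spec⟩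
    have hclosed : ∀ x, c x ≠ 0 → IsClosed ({x} : Set X) := fun x hx => by
      have := hcl _ (hdc _ hx)
      rwa [Set.image_singleton, (hsurj x).choose_spec] at this
    refine ⟨c, ⟨hfin, hclosed, ?_⟩, hcd⟩
    rw [← (hsum c hfin hclosed).2, hcd]
    exact hn

end Groth.Agent.H27FrobPts
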