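import Groth.Agent.H22Alg.GaloisFibres
import Groth.Prelude.Def_FinFr
import Mathlib

/-!
# Frobenius stable closed subsets of `X ⊗ k̄` descend
-/

set_option autoImplicit false
set_option linter.style.haveILetI false

universe u

open CategoryTheory CategoryTheory.Limits AlgebraicGeometry

namespace Groth.Agent.H27FrobPts

theorem exists_pow_of_algEquiv {k : Type u} [Field k] [Finite k] {K : Type u} [Field K] [Algebra k K]
    [Algebra.IsAlgebraic k K] (σ : K ≃ₐ[k] K) {R : Type u} [CommRing R] [Algebra k R] [Algebra.FiniteType k R]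
    (ψ : R →ₐ[k] K) : ∃ j : ℕ, ∀ a : R, σ (ψ a) = ψ a ^ Nat.card k ^ j := by
  obtain ⟨s, hs⟩ := Algebra.FiniteType.out (R := k) (A := R)
  classical
  let L : IntermediateField k K := IntermediateField.adjoin k (ψ '' (s : Set R))
  haveI : Finite (ψ '' (s : Set R)) := (s.finite_toSet.image ψ).to_subtype
  haveI : FiniteDimensional k L := IntermediateField.finiteDimensional_adjoin fun x _ => Algebra.IsIntegral.isIntegral x
  haveI : Finite L := Module.finite_of_finite k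
  have hmem : ∀ a : R, ψ a ∈ L := fun a => by
    have : a ∈ Algebra.adjoin k (s : Set R) := hs.symm ▸ Algebra.mem_top
    have h2 : ψ a ∈ (Algebra.adjoin k (s : Set R)).map ψ := ⟨a, this, rfl⟩
    rw [AlgHom.map_adjoin] at h2
    exact IntermediateField.algebra_adjoin_le_adjoin k _ h2
  haveI := Fintype.ofFinite k
  haveI : IsGalois k L := inferInstance
  obtain ⟨j, hj⟩ := (FiniteField.bijective_frobeniusAlgEquivOfAlgebraic_pow k L).2 (σ.restrictNormal L)
  refine ⟨j.1, fun a => ?_⟩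
  have h1 := AlgEquiv.restrictNormal_commutes σ L ⟨ψ a, hmem a⟩
  have h2 := DFunLike.congr_fun hj ⟨ψ a, hmem a⟩
  simp only [AlgEquiv.coe_pow, FiniteField.coe_frobeniusAlgEquivOfAlgebraic, pow_iterate] at h2
  rw [← Nat.card_eq_fintype_card] at h2
  rw [show σ (ψ a) = σ (algebraMap L K ⟨ψ a, hmem a⟩) from rfl, ← h1, ← h2, map_pow]
  rfl

variable {k : Type u} [Field k] [Finite k] {X : Scheme.{u}} (f : X ⟶ Spec (CommRingCat.of k))
  [LocallyOfFiniteType f] (FX : X ⟶ X) (hle : ∀ U : X.Opens, U ≤ FX ⁻¹ᵁ U)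
  (hFapp : ∀ (U : X.Opens) (s : Γ(X, U)), (FX.appLE U U (hle U)).hom s = s ^ Nat.card k)
  (K : Type u) [Field K] [Algebra k K] [IsAlgClosed K] [Algebra.IsAlgebraic k K]
  (F : FinFr.ext K f ⟶ FinFr.ext K f) (hF1 : F ≫ FinFr.extπ K f = FinFr.extπ K f ≫ FX)
  (hF2 : F ≫ FinFr.extStr K f = FinFr.extStr K f)

include hle hFapp hF1 hF2 in
theorem mem_of_stable (W : Set ↑(FinFr.ext K f)) (hW : ∀ x ∈ W, F.base x ∈ W)
    {x : ↑(FinFr.ext K f)} (hx : IsClosed ({x} : Set ↑(FinFr.ext K f))) (hxW : x ∈ W) (σ : K ≃ₐ[k] K) :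
    H22Alg.GaloisFibres.act f K σ x ∈ W := by
  let π := FinFr.extπ K f
  let pr := FinFr.extStr K f
  haveI : LocallyOfFiniteType pr := MorphismProperty.pullback_snd f _ inferInstance
  let c : Spec (CommRingCat.of K) := IsLocalRing.closedPoint K
  let P := pointOfClosedPoint pr x hx
  have hP : P ≫ pr = 𝟙 _ := pointOfClosedPoint_comp _ _ _
  have hPc : P c = x := pointOfClosedPoint_apply _ _ _ _
  obtain ⟨U, hU, hxU, -⟩ := exists_isAffineOpen_mem_and_subset (X := X) (x := π x) (U := ⊤) trivial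
  have hrange : Set.range (P ≫ π) ⊆ Set.range hU.fromSpec := by
    rw [hU.range_fromSpec]
    rintro _ ⟨t, rfl⟩
    rw [Subsingleton.elim (α := PrimeSpectrum K) t c, Scheme.Hom.comp_apply, hPc]
    exact hxU
  let l := IsOpenImmersion.lift hU.fromSpec (P ≫ π) hrange
  let ψ := Spec.preimage l
  have hψ : Spec.map ψ ≫ hU.fromSpec = P ≫ π := by rw [Spec.map_preimage, IsOpenImmersion.lift_fac]
  let φ₀ := Spec.preimage (hU.fromSpec ≫ f)
  have hφ₀ : φ₀ ≫ ψ = CommRingCat.ofHom (algebraMap k K) := Spec.map_injective (by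
    rw [Spec.map_comp, show Spec.map φ₀ = hU.fromSpec ≫ f from Spec.map_preimage _, reassoc_of% hψ]
    show P ≫ pullback.fst f _ ≫ f = _
    rw [pullback.condition, reassoc_of% hP])
  letI : Algebra k Γ(X, U) := φ₀.hom.toAlgebra
  haveI : Algebra.FiniteType k Γ(X, U) := by
    haveI : LocallyOfFiniteType (Spec.map φ₀) := by rw [Spec.map_preimage]; infer_instance
    exact (HasRingHomProperty.Spec_iff (P := @LocallyOfFiniteType)).mp ‹LocallyOfFiniteType (Spec.map φ₀)›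
  let ψ' : Γ(X, U) →ₐ[k] K := { ψ.hom with commutes' := fun a => ConcreteCategory.congr_hom hφ₀ a }
  obtain ⟨j, hj⟩ := exists_pow_of_algEquiv σ.symm ψ'
  have key : ∀ j : ℕ, ∃ (Q : Spec (CommRingCat.of K) ⟶ FinFr.ext K f) (χ : Γ(X, U) ⟶ CommRingCat.of K),
      Q ≫ pr = 𝟙 _ ∧ Q c ∈ W ∧ Q ≫ π = Spec.map χ ≫ hU.fromSpec ∧ ∀ a, χ a = ψ a ^ Nat.card k ^ j := by
    intro j
    induction j with
    | zero => exact ⟨P, ψ, hP, hPc ▸ hxW, hψ.symm, fun a => by simp⟩
    | succ j ih =>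
      obtain ⟨Q, χ, h1, h2, h3, h4⟩ := ih
      refine ⟨Q ≫ F, FX.appLE U U (hle U) ≫ χ, ?_, hW _ h2, ?_, fun a => ?_⟩
      · rw [Category.assoc, hF2]; exact h1
      · rw [Category.assoc, hF1, ← Category.assoc, h3, Category.assoc,
          ← hU.SpecMap_appLE_fromSpec FX hU (hle U), Spec.map_comp, Category.assoc]
      · change χ ((FX.appLE U U (hle U)).hom a) = _
        rw [hFapp, map_pow, h4, ← pow_mul, pow_succ]
  obtain ⟨Q, χ, h1, h2, h3, h4⟩ := key j
  let s := Spec.map (CommRingCat.ofHom (σ.symm : K →+* K))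
  let P' := s ≫ P ≫ H22Alg.GaloisFibres.act f K σ
  have hP'1 : P' ≫ pr = 𝟙 _ := by
    show (_ ≫ _ ≫ _) ≫ _ = _
    rw [Category.assoc, Category.assoc]
    erw [H22Alg.GaloisFibres.act_snd]
    rw [reassoc_of% hP, ← Spec.map_comp, ← Spec.map_id]
    congr 1
    ext y
    exact σ.symm_apply_apply y
  have hP'2 : P' ≫ π = Q ≫ π := by
    rw [h3]
    show (_ ≫ _ ≫ _) ≫ _ = _
    rw [Category.assoc, Category.assoc]
    erw [H22Alg.GaloisFibres.act_fst]
    rw [← hψ, ← Category.assoc, ← Spec.map_comp]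
    congr 2
    ext a
    exact (hj a).trans (h4 a).symm
  have hPQ : P' = Q := pullback.hom_ext hP'2 (hP'1.trans h1.symm)
  have hx' : H22Alg.GaloisFibres.act f K σ x = P' c := by
    show _ = (s ≫ P ≫ _) c
    rw [Scheme.Hom.comp_apply, Scheme.Hom.comp_apply, Subsingleton.elim (α := PrimeSpectrum K) (s c) c, hPc]
  rw [hx', hPQ]
  exact h2

include hle hFapp hF1 hF2 in
theorem descends_iff [QuasiCompact f] [Normal k K] (hFb : FX.base = 𝟙 _) (W : Set ↑(FinFr.ext K f))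
    (hW : IsClosed W) :
    (∃ Y : Set X, IsClosed Y ∧ (FinFr.extπ K f).base ⁻¹' Y = W) ↔ F.base '' W ⊆ W := by
  let π := FinFr.extπ K f
  refine ⟨?_, fun hst => ?_⟩
  · rintro ⟨Y, -, rfl⟩ _ ⟨x, hx, rfl⟩
    show π (F x) ∈ Y
    rw [← Scheme.Hom.comp_apply, hF1, Scheme.Hom.comp_apply]
    show FX.base (π x) ∈ Y
    rw [hFb]
    exact hx
  haveI : LocallyOfFiniteType (FinFr.extStr K f) := MorphismProperty.pullback_snd f _ inferInstance
  haveI : JacobsonSpace ↥(FinFr.ext K f) := LocallyOfFiniteType.jacobsonSpace (FinFr.extStr K f)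
  have hcl : IsClosedMap π := H22Alg.GaloisFibres.isClosedMap_bcπ f K
  refine ⟨π '' W, hcl _ hW, Set.Subset.antisymm (fun x hx => ?_) (Set.subset_preimage_image π W)⟩
  have hT : IsClosed (π.base ⁻¹' (π '' W)) := (hcl _ hW).preimage π.continuous
  by_contra hxW
  obtain ⟨z, ⟨hzT, hzW⟩, hzc⟩ := nonempty_inter_closedPoints (X := ↥(FinFr.ext K f)) (Z := π.base ⁻¹' (π '' W) \ W)
    ⟨x, hx, hxW⟩ (hT.isLocallyClosed.inter hW.isOpen_compl.isLocallyClosed)
  obtain ⟨w, hw, hwz⟩ := hzT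
  have hy : IsClosed ({π z} : Set X) := by
    have := hcl _ hzc
    rwa [Set.image_singleton] at this
  obtain ⟨w', hw', hw'c⟩ := nonempty_inter_closedPoints (X := ↥(FinFr.ext K f)) (Z := W ∩ π.base ⁻¹' {π z})
    ⟨w, hw, hwz⟩ (hW.inter (hy.preimage π.continuous)).isLocallyClosed
  obtain ⟨σ, hσ⟩ := H22Alg.GaloisFibres.exists_smul_eq f K (z := z) (z' := w') hw'.2.symm
  rw [H22Alg.GaloisFibres.smul_eq] at hσ
  exact hzW (hσ ▸ mem_of_stable f FX hle hFapp K F hF1 hF2 W (fun a ha => hst ⟨a, ha, rfl⟩) hw'c hw'.1 σ⁻¹)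

end Groth.Agent.H27FrobPts
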